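import Groth.Agent.AlgSpLib.FpqcLocalRep
import Groth.Agent.AlgSpLib.FibreProduct
import Groth.Agent.AlgStLib.SpDiagProps
import Groth.Agent.AlgSpThickTop.Main
import Groth.Prelude.Def_AlgSpGpd

/-!
Separation of a groupoid, of its stabilizer and of the unit section.
-/

set_option autoImplicit false
set_option backward.isDefEq.respectTransparency.types false

universe u

open CategoryTheory CategoryTheory.Limits AlgebraicGeometry Opposite AlgSp

namespace Groth.Agent.GpdStabSep

open Groth.Agent.AlgSpLib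

variable {S : Scheme.{u}} {B : Sp S} (G : GroupoidSp B) {P : MorphismProperty Scheme.{u}}

theorem stab_w : G.stabilizerι ≫ G.j = G.stabilizerToU ≫ G.diag := pullback.condition

theorem diag_fst : G.diag ≫ pullback.fst G.pU G.pU = 𝟙 _ := pullback.lift_fst _ _ _

theorem diag_snd : G.diag ≫ pullback.snd G.pU G.pU = 𝟙 _ := pullback.lift_snd _ _ _

theorem stab_t : G.stabilizerι ≫ G.t = G.stabilizerToU := by
  rw [← G.j_fst, reassoc_of% (stab_w G), diag_fst, Category.comp_id]

theorem stab_s : G.stabilizerι ≫ G.s = G.stabilizerToU := by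
  rw [← G.j_snd, reassoc_of% (stab_w G), diag_snd, Category.comp_id]

theorem eG_section (eG : G.U ⟶ G.stabilizer) (heG : eG ≫ G.stabilizerι = G.e) :
    eG ≫ G.stabilizerToU = 𝟙 _ := by
  rw [← stab_t, reassoc_of% heG, G.e_t]

/-- A section is a base change of the diagonal. -/
theorem repWith_section {A U : Sp S} (p : A ⟶ U) (e : U ⟶ A) (he : e ≫ p = 𝟙 U)
    (h : RepWith P (pullback.diagonal p)) : RepWith P e := by
  let m : A ⟶ pullback p p := pullback.lift (𝟙 A) (p ≫ e) (by simp [he])
  have mf : m ≫ pullback.fst p p = 𝟙 A := pullback.lift_fst _ _ _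
  have ms : m ≫ pullback.snd p p = p ≫ e := pullback.lift_snd _ _ _
  have hw : e ≫ pullback.diagonal p = e ≫ m := by
    apply pullback.hom_ext
    · rw [Category.assoc, Category.assoc, pullback.diagonal_fst, mf]
    · rw [Category.assoc, Category.assoc, pullback.diagonal_snd, ms, reassoc_of% he, Category.comp_id]
  have key : ∀ (s : PullbackCone (pullback.diagonal p) m), s.fst = s.snd ∧ s.fst = s.snd ≫ p ≫ e := fun s => by
    have h1 := congrArg (· ≫ pullback.fst p p) s.condition
    have h2 := congrArg (· ≫ pullback.snd p p) s.condition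
    simp only [Category.assoc, pullback.diagonal_fst, pullback.diagonal_snd, mf, ms, Category.comp_id] at h1 h2
    exact ⟨h1, h2⟩
  refine repWith_baseChange (fst := e) (snd := e) (g := m) (f := pullback.diagonal p) ⟨⟨hw⟩, ⟨PullbackCone.IsLimit.mk _
    (fun s => s.snd ≫ p) (fun s => ?_) (fun s => ?_) (fun s l h1 _ => ?_)⟩⟩ h
  · rw [Category.assoc]; exact (key s).2.symm
  · rw [Category.assoc, ← (key s).2, (key s).1]
  · have := congrArg (· ≫ p) h1
    simp only [Category.assoc, he, Category.comp_id] at this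
    rw [this, (key s).1]

/-- The diagonal of `j` is a base change of the unit of the stabilizer. -/
theorem repWith_diagonal_j (eG : G.U ⟶ G.stabilizer) (heG : eG ≫ G.stabilizerι = G.e)
    (h : RepWith P eG) : RepWith P (pullback.diagonal G.j) := by
  let a := pullback.fst G.j G.j
  let b := pullback.snd G.j G.j
  have ht : a ≫ G.t = b ≫ G.t := by
    rw [← G.j_fst, ← Category.assoc, ← Category.assoc, pullback.condition]
  have hs : a ≫ G.s = b ≫ G.s := by
    rw [← G.j_snd, ← Category.assoc, ← Category.assoc, pullback.condition]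
  have h1 : (a ≫ G.i) ≫ G.s = b ≫ G.t := by rw [Category.assoc, G.i_s, ht]
  let μR := pullback.lift (a ≫ G.i) b h1 ≫ G.c
  have hμ : μR ≫ G.j = (b ≫ G.s) ≫ G.diag := by
    apply pullback.hom_ext
    · rw [Category.assoc, Category.assoc _ G.diag, G.j_fst, diag_fst, Category.comp_id, G.comp_t, Category.assoc,
        G.i_t, hs]
    · rw [Category.assoc, Category.assoc _ G.diag, G.j_snd, diag_snd, Category.comp_id, G.comp_s]
  obtain ⟨μ, hμι, hμU⟩ : ∃ μ : pullback G.j G.j ⟶ G.stabilizer,
      μ ≫ G.stabilizerι = μR ∧ μ ≫ G.stabilizerToU = b ≫ G.s :=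
    ⟨pullback.lift _ _ hμ, pullback.lift_fst _ _ _, pullback.lift_snd _ _ _⟩
  have ext2 : ∀ {T : AlgSp.Sp S} {x y x' y' : T ⟶ G.R} (h : x ≫ G.s = y ≫ G.t) (h' : x' ≫ G.s = y' ≫ G.t),
      x = x' → y = y' → pullback.lift x y h ≫ G.c = pullback.lift x' y' h' ≫ G.c := by
    rintro T x y _ _ h h' rfl rfl; rfl
  have nat : ∀ {T T' : AlgSp.Sp S} (k : T' ⟶ T) {x y : T ⟶ G.R} (h : x ≫ G.s = y ≫ G.t),
      k ≫ pullback.lift x y h ≫ G.c =
        pullback.lift (k ≫ x) (k ≫ y) (by rw [Category.assoc, Category.assoc, h]) ≫ G.c := by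
    intro T T' k x y h
    rw [← Category.assoc]; congr 1
    apply pullback.hom_ext
    · rw [Category.assoc, pullback.lift_fst, pullback.lift_fst]
    · rw [Category.assoc, pullback.lift_snd, pullback.lift_snd]
  have hw : G.s ≫ eG = pullback.diagonal G.j ≫ μ := by
    apply pullback.hom_ext
    · change (G.s ≫ eG) ≫ G.stabilizerι = (_ ≫ μ) ≫ G.stabilizerι
      rw [Category.assoc, Category.assoc, heG, hμι, nat]
      refine (ext2 _ (by rw [Category.assoc, G.i_s]) ?_ ?_).trans ((G.i_comp (𝟙 G.R)).trans ?_) |>.symm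
      · rw [← Category.assoc, pullback.diagonal_fst]
      · rw [pullback.diagonal_snd]
      · rw [Category.id_comp]
    · change (G.s ≫ eG) ≫ G.stabilizerToU = (_ ≫ μ) ≫ G.stabilizerToU
      rw [Category.assoc, Category.assoc, eG_section G eG heG, hμU, Category.comp_id, ← Category.assoc,
        pullback.diagonal_snd, Category.id_comp]
  have key : ∀ (c : PullbackCone eG μ), c.snd ≫ a = c.snd ≫ b ∧ c.fst = c.snd ≫ b ≫ G.s := fun c => by
    have e0 := c.condition
    have e1 : c.fst = c.snd ≫ b ≫ G.s := by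
      have := congrArg (· ≫ G.stabilizerToU) e0
      simp only [Category.assoc, eG_section G eG heG, hμU, Category.comp_id] at this
      exact this
    refine ⟨?_, e1⟩
    have e2 : (c.snd ≫ a ≫ G.s) ≫ G.e = c.snd ≫ μR := by
      have := congrArg (· ≫ G.stabilizerι) e0
      simp only [Category.assoc, heG, hμι] at this
      rw [← this, hs, ← e1]
    rw [nat] at e2
    obtain ⟨α, hα⟩ : ∃ α, α = c.snd ≫ a := ⟨_, rfl⟩
    obtain ⟨β, hβ⟩ : ∃ β, β = c.snd ≫ b := ⟨_, rfl⟩
    have hαβ : α ≫ G.t = β ≫ G.t := by rw [hα, hβ, Category.assoc, Category.assoc, ht]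
    have i1 : (α ≫ G.i) ≫ G.s = β ≫ G.t := by rw [Category.assoc, G.i_s, hαβ]
    have i3 : α ≫ G.s = (α ≫ G.i) ≫ G.t := by rw [Category.assoc, G.i_t]
    have e3 : α ≫ G.s ≫ G.e = pullback.lift (α ≫ G.i) β i1 ≫ G.c := by
      refine Eq.trans ?_ (e2.trans (ext2 _ i1 ?_ hβ.symm))
      · rw [hα, Category.assoc, Category.assoc, Category.assoc]
      · rw [hα, Category.assoc]
    rw [← hα, ← hβ]
    calc α = pullback.lift α (α ≫ G.s ≫ G.e)
          (by rw [Category.assoc, Category.assoc, G.e_t, Category.comp_id]) ≫ G.c := (G.comp_e α).symm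
      _ = pullback.lift α (pullback.lift (α ≫ G.i) β i1 ≫ G.c) (by rw [G.comp_t, i3]) ≫ G.c := ext2 _ _ rfl e3
      _ = pullback.lift (pullback.lift α (α ≫ G.i) i3 ≫ G.c) β ((G.comp_s _ _ i3).trans i1) ≫ G.c :=
          (G.assoc α (α ≫ G.i) β i3 i1).symm
      _ = pullback.lift (β ≫ G.t ≫ G.e) β (by rw [Category.assoc, Category.assoc, G.e_s, Category.comp_id]) ≫ G.c :=
          ext2 _ _ (by rw [G.comp_i, ← Category.assoc α, ← Category.assoc β, hαβ]) rfl
      _ = β := G.e_comp β
  refine repWith_baseChange (fst := G.s) (snd := pullback.diagonal G.j) (f := eG) (g := μ)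
    ⟨⟨hw⟩, ⟨PullbackCone.IsLimit.mk _ (fun c => c.snd ≫ b) (fun c => ?_) (fun c => ?_) (fun c l _ h2 => ?_)⟩⟩ h
  · rw [Category.assoc]; exact (key c).2.symm
  · apply pullback.hom_ext
    · rw [Category.assoc, pullback.diagonal_fst, Category.comp_id]; exact (key c).1.symm
    · rw [Category.assoc, pullback.diagonal_snd, Category.comp_id]
  · rw [← h2, Category.assoc, pullback.diagonal_snd, Category.comp_id]

theorem repWith_stab (h : RepWith P (pullback.diagonal G.j)) : RepWith P (pullback.diagonal G.stabilizerToU) :=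
  repWith_diagonal_baseChange (IsPullback.of_hasPullback G.j G.diag) h

theorem repWith_unit (eG : G.U ⟶ G.stabilizer) (heG : eG ≫ G.stabilizerι = G.e)
    (h : RepWith P (pullback.diagonal G.stabilizerToU)) : RepWith P eG :=
  repWith_section _ _ (eG_section G eG heG) h

theorem iff_all (eG : G.U ⟶ G.stabilizer) (heG : eG ≫ G.stabilizerι = G.e) :
    (RepWith P (pullback.diagonal G.j) ↔ RepWith P (pullback.diagonal G.stabilizerToU)) ∧
      (RepWith P (pullback.diagonal G.j) ↔ RepWith P eG) :=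
  ⟨⟨repWith_stab G, fun h => repWith_diagonal_j G eG heG (repWith_unit G eG heG h)⟩,
    fun h => repWith_unit G eG heG (repWith_stab G h), repWith_diagonal_j G eG heG⟩

theorem separation (hB : IsAlgSpace B) (hU : IsAlgSpace G.U) (hR : IsAlgSpace G.R)
    (eG : G.U ⟶ G.stabilizer) (heG : eG ≫ G.stabilizerι = G.e) :
    ((IsSeparatedMor G.j ↔ IsSeparatedMor G.stabilizerToU) ∧
        (IsSeparatedMor G.j ↔ RepWith @IsClosedImmersion eG)) ∧
      ((IsQuasiSeparatedMor G.j ↔ IsQuasiSeparatedMor G.stabilizerToU) ∧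
        (IsQuasiSeparatedMor G.j ↔ IsQuasiCompactMor eG)) ∧
      ((IsLocallySeparatedMor G.j → RepWith @IsImmersion eG) ∧
        (IsLocallySeparatedMor G.stabilizerToU → RepWith @IsImmersion eG)) := by
  have hSt : IsAlgSpace G.stabilizer :=
    isAlgSpace_pullback G.j G.diag hR hU (isAlgSpace_pullback G.pU G.pU hU hU hB)
  have hrep : Representable eG :=
    (repWith_unit (P := ⊤) G eG heG ⟨representable_diagonal hSt _, fun _ _ _ _ _ _ => trivial⟩).1
  refine ⟨iff_all G eG heG, ⟨(iff_all G eG heG).1, (iff_all G eG heG).2.trans ?_⟩,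
    (iff_all G eG heG).2.1, repWith_unit G eG heG⟩
  exact ⟨fun h => Groth.Agent.AlgStLib.isQuasiCompactMor_of_repWith hU hSt h,
    fun h => Groth.Agent.AlgSpThickTop.repWith_qc_of_isQuasiCompactMor hrep h⟩

end Groth.Agent.GpdStabSep
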